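import Groth.Prelude.Def_KRR
import Groth.Agent.Krr.H447.Syz
import Groth.Agent.Krr.H496.PullK0
import Groth.Agent.Krr.H446.ProjFormula
import Groth.Agent.CohqB.LocalQC
import Groth.Agent.PerfC.ClosedPush
import Groth.Agent.PerfC.FlatExact

/-!
# Pull-backs of finite locally free resolutions along morphisms avoiding the bad locus

* `pullK0_sum_of_isLFRes`: if `L → N` is a finite resolution by finite locally free modules, `j : U ⟶ M` an open
  immersion with `j^* N` finite locally free and `h = h' ≫ j`, then `h^* Σ (-1)^k [L_k] = [h^* N]`.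
* `pullK0_sum_eq_zero`: for `N = F_* E`, `F` a closed immersion and `h` with image disjoint from that of `F`, the
  class `Σ (-1)^k [h^* L_k]` vanishes.
-/

set_option autoImplicit false

universe v w u

open CategoryTheory CategoryTheory.Limits AlgebraicGeometry

namespace Groth.Agent.Krr.H449.PushDisj

open Groth.Agent.Krr

variable {X P M Z U : Scheme.{u}}

theorem cl_zero {N : M.Modules} (h : IsZero N) : KRR.cl M N = 0 := by
  have hN : FlatMod.IsFinLocFree N := Groth.Agent.Sga67.ExtClass.isFinLocFree_zero h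
  have := H496.PullK0.cl_ses (S := ShortComplex.mk (0 : N ⟶ N) (0 : N ⟶ N) (by simp))
    { exact := ShortComplex.exact_of_isZero_X₂ _ h
      mono_f := h.mono _
      epi_g := h.epi _ } hN hN hN
  simpa using this

/-- Classes of pull-backs of resolutions of modules that are bundles near the image. -/
theorem pullK0_sum_of_isLFRes (h : Z ⟶ M) (h' : Z ⟶ U) (j : U ⟶ M) [IsOpenImmersion j]
    (hj : h' ≫ j = h) {N : M.Modules} {n : ℕ} {L : ChainComplex M.Modules ℕ}
    {π : L ⟶ (ChainComplex.single₀ M.Modules).obj N} (hL : KRR.IsLFRes N n L π)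
    (hN : FlatMod.IsFinLocFree ((Scheme.Modules.pullback j).obj N)) :
    H496.PullK0.pullK0 h (∑ k ∈ Finset.range (n + 1), (-1 : ℤ) ^ k • KRR.cl M (L.X k)) =
      KRR.cl Z ((Scheme.Modules.pullback h).obj N) := by
  subst hj
  refine H447.Syz.isLFRes_induction
    (fun N c => FlatMod.IsFinLocFree ((Scheme.Modules.pullback j).obj N) →
      H496.PullK0.pullK0 (h' ≫ j) c = KRR.cl Z ((Scheme.Modules.pullback (h' ≫ j)).obj N))
    ?_ ?_ ?_ hL hN
  · intro A B c e hA hB
    rw [hA (Groth.Agent.Sga67.LocBasis.isFinLocFree_of_iso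
      ((Scheme.Modules.pullback j).mapIso e).symm hB)]
    refine H446.ProjFormula.cl_iso ((Scheme.Modules.pullback (h' ≫ j)).mapIso e) ?_
    refine Groth.Agent.Sga67.LocBasis.isFinLocFree_of_iso
      (((Scheme.Modules.pullbackComp h' j).app A)) ?_
    exact Groth.Agent.PerfB.FlatPull.isFinLocFree_pullback h'
      (Groth.Agent.Sga67.LocBasis.isFinLocFree_of_iso
      ((Scheme.Modules.pullback j).mapIso e).symm hB)
  · intro A hA _
    rw [map_zero, cl_zero ((Scheme.Modules.pullback (h' ≫ j)).map_isZero hA)]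
  · intro S hS hE c hc h₃
    have hjS : (S.map (Scheme.Modules.pullback j)).ShortExact := by
      have := Groth.Agent.PerfC.FlatExact.preservesFiniteLimits_pullback j
      exact hS.map_of_exact (Scheme.Modules.pullback j)
    have h₂ : FlatMod.IsFinLocFree ((Scheme.Modules.pullback j).obj S.X₂) :=
      Groth.Agent.PerfB.FlatPull.isFinLocFree_pullback j hE
    have h₁ : FlatMod.IsFinLocFree ((Scheme.Modules.pullback j).obj S.X₁) := by
      exact @Dcoh.Spread.isFinLocFree_of_isLimit_kernelFork _ _ _ _ h₂ h₃ _ _ hjS.epi_g _ hjS.fIsKernel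
    have hS' := H496.PullK0.shortExact_pullback_of_isFinLocFree h' hjS h₃
    have key := H496.PullK0.cl_ses hS'
      (Groth.Agent.PerfB.FlatPull.isFinLocFree_pullback h' h₁)
      (Groth.Agent.PerfB.FlatPull.isFinLocFree_pullback h' h₂)
      (Groth.Agent.PerfB.FlatPull.isFinLocFree_pullback h' h₃)
    have e (A : M.Modules) (hA : FlatMod.IsFinLocFree ((Scheme.Modules.pullback j).obj A)) :
        KRR.cl Z ((Scheme.Modules.pullback h').obj ((Scheme.Modules.pullback j).obj A)) =
          KRR.cl Z ((Scheme.Modules.pullback (h' ≫ j)).obj A) :=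
      H446.ProjFormula.cl_iso ((Scheme.Modules.pullbackComp h' j).app A)
        (Groth.Agent.PerfB.FlatPull.isFinLocFree_pullback h' hA)
    have hE' : H496.PullK0.pullK0 (h' ≫ j) (KRR.cl M S.X₂) =
        KRR.cl Z ((Scheme.Modules.pullback (h' ≫ j)).obj S.X₂) := H496.PullK0.pullK0_cl (h' ≫ j) hE
    rw [map_sub, hc h₁, hE', ← e _ h₁, ← e _ h₂, ← e _ h₃]
    exact sub_eq_of_eq_add' key

/-- The pull-back of `F_* E` along an open immersion whose image avoids that of `F` is zero. -/
theorem isZero_pullback_pushforward (F : P ⟶ M) (V : M.Opens) (hV : ∀ p : P, F p ∉ V) (E : P.Modules) :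
    IsZero ((Scheme.Modules.pullback V.ι).obj ((Scheme.Modules.pushforward F).obj E)) := by
  refine IsZero.of_iso ?_ (((Scheme.Modules.restrictFunctorIsoPullback V.ι).symm.app _))
  refine Groth.Agent.CohqB.LocalQC.isZero_restrict_of_subsingleton V fun U hU => ?_
  have hb : F ⁻¹ᵁ U = ⊥ := by
    rw [eq_bot_iff]
    intro p hp
    exact (hV p (hU hp)).elim
  exact Groth.Agent.PerfC.ClosedPush.subsingleton_of_eq_bot E (F ⁻¹ᵁ U) hb

/-- The class of the pull-back of a resolution of `F_* E` along a morphism avoiding the image of `F` is zero. -/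
theorem pullK0_sum_eq_zero (F : P ⟶ M) [IsClosedImmersion F] (h : Z ⟶ M)
    (hd : Disjoint (Set.range h.base) (Set.range F.base)) {E : P.Modules} {n : ℕ} {L : ChainComplex M.Modules ℕ}
    {π : L ⟶ (ChainComplex.single₀ M.Modules).obj ((Scheme.Modules.pushforward F).obj E)}
    (hL : KRR.IsLFRes ((Scheme.Modules.pushforward F).obj E) n L π) :
    H496.PullK0.pullK0 h (∑ k ∈ Finset.range (n + 1), (-1 : ℤ) ^ k • KRR.cl M (L.X k)) = 0 := by
  obtain ⟨V, hVF, hV⟩ : ∃ V : M.Opens, (∀ p : P, F p ∉ V) ∧ Set.range h ⊆ Set.range V.ι := by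
    refine ⟨⟨(Set.range F)ᶜ, F.isClosedEmbedding.isClosed_range.isOpen_compl⟩, fun p hp => hp ⟨p, rfl⟩, ?_⟩
    rw [Scheme.Opens.range_ι]
    exact fun x hx => Set.disjoint_left.1 hd hx
  have h0 := isZero_pullback_pushforward F V hVF E
  obtain ⟨h', hj⟩ : ∃ h' : Z ⟶ V.toScheme, h' ≫ V.ι = h :=
    ⟨IsOpenImmersion.lift V.ι h hV, IsOpenImmersion.lift_fac V.ι h hV⟩
  rw [pullK0_sum_of_isLFRes h h' V.ι hj hL (Groth.Agent.Sga67.ExtClass.isFinLocFree_zero h0)]
  refine cl_zero ?_
  subst hj
  exact ((Scheme.Modules.pullback h').map_isZero h0).of_iso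
    ((Scheme.Modules.pullbackComp h' V.ι).symm.app _)

/-- On models: pull-back along a morphism avoiding the image of the closed immersion `F` kills `F_K`. -/
theorem pull_pushCl_eq_zero (F : P ⟶ M) [IsClosedImmersion F] (h : Z ⟶ M)
    (hd : Disjoint (Set.range h.base) (Set.range F.base))
    (hres : ∀ E : P.Modules, FlatMod.IsFinLocFree E → KRR.HasLFRes ((Scheme.Modules.pushforward F).obj E))
    {KP : Type v} [CommRing KP] [LambdaRing.LambdaOps KP] {PP : LambdaRing.PosStructure KP}
    {φP : SGA6.Kvb P →+ KP} (hKP : KRR.IsModel P KP PP φP)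
    {KM : Type v} [CommRing KM] {φM : SGA6.Kvb M →+ KM}
    {KZ : Type v} [CommRing KZ] {φZ : SGA6.Kvb Z →+ KZ}
    {gh : KM →+ KZ} (hgh : KRR.IsPull h φM φZ gh)
    {gF : KP →+ KM} (hgF : KRR.IsPushCl F φP φM gF) (p : KP) : gh (gF p) = 0 := by
  induction p using H446.ProjFormula.model_induction hKP with
  | h0 => simp
  | hneg x hx => simp [hx]
  | hadd x y hx hy => simp [hx, hy]
  | hc E hE =>
    obtain ⟨n, L, π, hL⟩ := hres E hE
    rw [hgF E hE n L π hL, map_sum]
    have key := congrArg φZ (pullK0_sum_eq_zero F h hd hL)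
    rw [map_zero, map_sum, map_sum] at key
    rw [← key]
    refine Finset.sum_congr rfl fun k _ => ?_
    rw [map_zsmul, map_zsmul, map_zsmul, hgh _ (hL.finLocFree k)]
    congr 2
    exact (H496.PullK0.pullK0_cl h (hL.finLocFree k)).symm

end Groth.Agent.Krr.H449.PushDisj
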